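import Mathlib
import Cfsg.Agent.H703.K6.Facts
import Cfsg.Agent.H774.K0.Prime
import Cfsg.Agent.H633.Principal
import Cfsg.Agent.H735.S4822.Orb
import Cfsg.Agent.H634.ClassEq
import Cfsg.Agent.Lib.Cores
import Cfsg.Agent.Blocks.UniqueBlock

/-!
# S4876: reduction, case A (a minimal normal subgroup of index divisible by `p`)

* `card_add_le`: counting members of `B₀(G)` by the kernel;
* `perfect`: `N` normal perfect, `p ∣ |N|`, `p ∣ |G : N|`, all degrees in `B₀(G)` prime to `p`, `p` odd: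
  `7 ≤ k(B₀(G))`.
-/

set_option autoImplicit false
set_option linter.unusedSectionVars false

open Cfsg
open scoped ComplexConjugate

namespace Cfsg.Agent.H703.K6

open Cfsg.Agent.Characters.Core Cfsg.Agent.Blocks Cfsg.Agent.Blocks.Basic Cfsg.Agent.H703.Lat
open Cfsg.Agent.H633.Principal (infl infl_apply inflate_mem)

universe u

variable {G : Type u} [Group G] [Finite G] {p : ℕ} [Fact p.Prime] {M : Ideal AlgInt}

theorem finite_principal : Finite (principalBlock M G) := by
  have := finite_irr (G := G)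
  infer_instance

theorem not_ker_of_over (N : Subgroup G) [Fintype N] {χ : G → ℂ} {θ : IrrCharacter N}
    (hθ : (θ : N → ℂ) ≠ fun _ => 1) (h : classInner (fun n : N => χ n) (θ : N → ℂ) ≠ 0) :
    ¬ ∀ n ∈ N, χ n = χ 1 := by
  intro hker
  apply h
  have h1 : (fun n : N => χ n) = χ 1 • (1 : N → ℂ) := by
    funext n
    rw [Pi.smul_apply, Pi.one_apply, smul_eq_mul, mul_one]
    exact hker n n.2
  rw [h1, classInner_smul_left, classInner_irr_ne isIrr_one θ.2 (fun h => hθ h.symm), mul_zero]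

theorem infl_injective (N : Subgroup G) [N.Normal] : Function.Injective (infl N) := by
  intro a b h
  refine Subtype.ext (funext fun x => ?_)
  obtain ⟨g, rfl⟩ := QuotientGroup.mk_surjective x
  have h1 := congrFun (congrArg Subtype.val h) g
  rw [infl_apply, infl_apply] at h1
  exact h1

theorem infl_ker (N : Subgroup G) [N.Normal] (ψ : IrrCharacter (G ⧸ N)) (n : G) (hn : n ∈ N) :
    (infl N ψ : G → ℂ) n = (infl N ψ : G → ℂ) 1 := by
  rw [infl_apply, infl_apply, (QuotientGroup.eq_one_iff n).2 hn, QuotientGroup.mk_one]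

/-- Counting by the kernel. -/
theorem card_add_le (N : Subgroup G) [N.Normal] (Y : Set (IrrCharacter (G ⧸ N)))
    (hY : ∀ ψ ∈ Y, infl N ψ ∈ principalBlock M G) (s : Finset (IrrCharacter G))
    (hs : ∀ χ ∈ s, χ ∈ principalBlock M G ∧ ¬ ∀ n ∈ N, (χ : G → ℂ) n = (χ : G → ℂ) 1) :
    Nat.card Y + s.card ≤ Nat.card (principalBlock M G) := by
  have hfin := finite_principal (M := M) (G := G)
  have := finite_irr (G := G ⧸ N)
  let F : Y ⊕ s → principalBlock M G :=
    Sum.elim (fun ψ => ⟨infl N ψ.1, hY ψ.1 ψ.2⟩) (fun χ => ⟨χ.1, (hs χ.1 χ.2).1⟩)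
  have hF : Function.Injective F := by
    rintro (a | a) (b | b) h
    · exact congrArg Sum.inl (Subtype.ext (infl_injective N (congrArg Subtype.val h)))
    · exfalso
      refine (hs b.1 b.2).2 ?_
      have h1 : infl N a.1 = b.1 := congrArg Subtype.val h
      rw [← h1]
      exact infl_ker N a.1
    · exfalso
      refine (hs a.1 a.2).2 ?_
      have h1 : a.1 = infl N b.1 := congrArg Subtype.val h
      rw [h1]
      exact infl_ker N b.1
    · have h1 : (a.1 : IrrCharacter G) = b.1 := congrArg (fun z : principalBlock M G => z.1) h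
      exact congrArg Sum.inr (Subtype.ext h1)
  have h := Nat.card_le_card_of_injective F hF
  rwa [Nat.card_sum, Nat.card_eq_finsetCard] at h

/-- `k(B₀) ≥ 3` for odd `p` dividing the group order, `≥ 4` for `p = 5`, `≥ 5` for `p ≥ 7`. -/
theorem k_bound (hM : IsPModular p M) (hp2 : p ≠ 2) (hG : p ∣ Nat.card G) :
    6 ≤ Nat.card (principalBlock M G) ∨
      (¬ p ^ 2 ∣ Nat.card G ∧ 4 * (p - 1) ≤ Nat.card (principalBlock M G) ^ 2) := by
  have hp : p.Prime := Fact.out
  have hfin := finite_principal (M := M) (G := G)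
  by_cases h2 : p ^ 2 ∣ Nat.card G
  · left
    refine (H774.K0.six_le_card hp2 hM h2).trans ?_
    exact Nat.card_le_card_of_injective (fun χ => (⟨χ.1, χ.2.1⟩ : principalBlock M G))
      fun a b h => Subtype.ext (congrArg (fun z : principalBlock M G => z.1) h)
  · right
    refine ⟨h2, ?_⟩
    obtain ⟨P⟩ : Nonempty (Sylow p G) := inferInstance
    have hP : Nat.card P = p := by
      have h3 : (Nat.card G).factorization p = 1 := by
        apply le_antisymm
        · by_contra hcon
          push Not at hcon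
          exact h2 ((hp.pow_dvd_iff_le_factorization Nat.card_pos.ne').2 hcon)
        · exact (hp.dvd_iff_one_le_factorization Nat.card_pos.ne').1 hG
      rw [P.card_eq_multiplicity, h3, pow_one]
    have h3 := S0960.result p M hM hp2 P hP _ rfl
    have h4 := SmallSimple.SylowPrimeCount.relIndex_dvd_pred hp hP
    rw [h3.1]
    set e := (Subgroup.centralizer ((P : Subgroup G) : Set G)).relIndex (Subgroup.normalizer ((P : Subgroup G) : Set G))
      with he
    obtain ⟨f, hf⟩ := h4
    have hp1 : 0 < p - 1 := by have := hp.two_le; omega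
    have he0 : 0 < e := Nat.pos_of_ne_zero fun h => by rw [h, zero_mul] at hf; omega
    rw [hf, Nat.mul_div_cancel_left f he0]
    nlinarith [sq_nonneg ((e : ℤ) - f), sq_nonneg (e - f), Nat.mul_le_mul_left 4 (le_refl (e * f)),
      (by
        have h5 : (0 : ℤ) ≤ ((e : ℤ) - f) ^ 2 := sq_nonneg _
        have h6 : (4 : ℤ) * (e * f) ≤ (e + f) ^ 2 := by nlinarith
        exact_mod_cast h6 : 4 * (e * f) ≤ (e + f) ^ 2)]

/-- Two members over `θ`, two over `θ'`, not conjugate. -/
theorem four_over (hM : IsPModular p M) (N : Subgroup G) [N.Normal] [Fintype N] (hN : p ∣ N.index)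
    (hdeg : ∀ χ ∈ principalBlock M G, ¬ p ∣ charDegree (χ : G → ℂ)) {θ θ' : IrrCharacter N}
    (hθ : θ ∈ principalBlock M N) (hθ' : θ' ∈ principalBlock M N)
    (h1 : (θ : N → ℂ) ≠ fun _ => 1) (h1' : (θ' : N → ℂ) ≠ fun _ => 1)
    (hne : ∀ g : G, (θ' : N → ℂ) ≠ (θ : N → ℂ) ∘ (MulAut.conjNormal g : MulAut N)) :
    ∃ s : Finset (IrrCharacter G), s.card = 4 ∧
      ∀ χ ∈ s, χ ∈ principalBlock M G ∧ ¬ ∀ n ∈ N, (χ : G → ℂ) n = (χ : G → ℂ) 1 := by
  classical
  have hfG := Fintype.ofFinite G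
  obtain ⟨a, ha, b, hb, hab, haθ, hbθ⟩ := two_over hM N hN hdeg hθ
  obtain ⟨c, hc, d, hd, hcd, hcθ, hdθ⟩ := two_over hM N hN hdeg hθ'
  have hsep : ∀ χ χ' : IrrCharacter G, classInner (fun n : N => (χ : G → ℂ) n) (θ : N → ℂ) ≠ 0 →
      classInner (fun n : N => (χ' : G → ℂ) n) (θ' : N → ℂ) ≠ 0 → χ ≠ χ' := by
    rintro χ χ' hχ hχ' rfl
    obtain ⟨g, hg⟩ := Characters.Clifford.exists_conj_of_constituents N χ.2 θ.2 θ'.2 hχ hχ'
    exact hne g hg
  refine ⟨{a, b, c, d}, ?_, ?_⟩
  · rw [Finset.card_insert_of_notMem, Finset.card_insert_of_notMem, Finset.card_pair hcd]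
    · simp only [Finset.mem_insert, Finset.mem_singleton, not_or]
      exact ⟨hsep b c hbθ hcθ, hsep b d hbθ hdθ⟩
    · simp only [Finset.mem_insert, Finset.mem_singleton, not_or]
      exact ⟨hab, hsep a c haθ hcθ, hsep a d haθ hdθ⟩
  · intro χ hχ
    simp only [Finset.mem_insert, Finset.mem_singleton] at hχ
    rcases hχ with rfl | rfl | rfl | rfl
    · exact ⟨ha, not_ker_of_over N h1 haθ⟩
    · exact ⟨hb, not_ker_of_over N h1 hbθ⟩
    · exact ⟨hc, not_ker_of_over N h1' hcθ⟩
    · exact ⟨hd, not_ker_of_over N h1' hdθ⟩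

/-- **Perfect normal subgroups.** -/
theorem perfect (hM : IsPModular p M) (hp2 : p ≠ 2) (N : Subgroup G) [N.Normal] (hperf : commutator N = ⊤)
    (hpN : p ∣ Nat.card N) (hN : p ∣ N.index)
    (hdeg : ∀ χ ∈ principalBlock M G, ¬ p ∣ charDegree (χ : G → ℂ)) :
    7 ≤ Nat.card (principalBlock M G) := by
  classical
  have hfN := Fintype.ofFinite N
  have hMp : M.IsPrime := LocalRing.isPrime hM
  obtain ⟨θ, hθ, θ', hθ', h1, h1', hd⟩ := two_degrees hM hperf hpN
  obtain ⟨s, hs, hs'⟩ := four_over hM N hN hdeg hθ hθ' h1 h1' (by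
    intro g hg
    apply hd
    have h2 : (θ' : N → ℂ) 1 = (θ : N → ℂ) 1 := by
      rw [hg, Function.comp_apply, map_one]
    rw [irr_one_eq_charDegree θ.2, irr_one_eq_charDegree θ'.2] at h2
    exact_mod_cast h2.symm)
  have h3 := card_add_le (M := M) N (principalBlock M (G ⧸ N)) (fun ψ hψ => inflate_mem N hψ) s hs'
  have h4 : 3 ≤ Nat.card (principalBlock M (G ⧸ N)) := by
    rw [Subgroup.index_eq_card] at hN
    have hp3 : 3 ≤ p := by
      have := (Fact.out : p.Prime).two_le
      omega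
    rcases k_bound (G := G ⧸ N) hM hp2 hN with h | ⟨-, h⟩
    · omega
    · by_contra hcon
      have h5 : Nat.card (principalBlock M (G ⧸ N)) ≤ 2 := by omega
      have h6 := Nat.pow_le_pow_left h5 2
      omega
  rw [hs] at h3
  have h5 : Nat.card ↑(principalBlock M (G ⧸ N)) = Nat.card (principalBlock M (G ⧸ N)) := rfl
  omega

end Cfsg.Agent.H703.K6
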