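import Mathlib
import Cfsg.Agent.H703.K6.CaseA
import Cfsg.Agent.H686.CharKit
import Cfsg.Agent.Characters.CCBasic
import Cfsg.Agent.H698.Landau
import Cfsg.Agent.SmallSimple.SylowPrimeCount

/-!
# S4876: reduction, case A, continued: a normal abelian `p`-subgroup of index divisible by `p`

* `abelian`: `N ≠ 1` normal abelian `p`-subgroup, `p ∣ |G : N|`, `p` odd, `O_{p'}(G) = 1`, `27 ∣ |G|` if `p = 3`:
  `k(B₀(G)) ≠ 6`.
-/

set_option autoImplicit false
set_option linter.unusedSectionVars false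

open Cfsg
open scoped ComplexConjugate

namespace Cfsg.Agent.H703.K6

open Cfsg.Agent.Characters.Core Cfsg.Agent.Blocks Cfsg.Agent.Blocks.Basic Cfsg.Agent.H703.Lat
open Cfsg.Agent.H633.Principal (infl infl_apply inflate_mem)

universe u

variable {G : Type u} [Group G] [Finite G] {p : ℕ} [Fact p.Prime] {M : Ideal AlgInt}

/-- The trivial character. -/
noncomputable def one (X : Type*) [Group X] [Finite X] : IrrCharacter X := ⟨fun _ => 1, isIrrCharacter_one⟩

theorem exists_ne_one (N : Subgroup G) (hab : ∀ a b : N, a * b = b * a) (hN1 : N ≠ ⊥) :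
    ∃ θ : IrrCharacter N, (θ : N → ℂ) ≠ fun _ => 1 := by
  have := finite_irr (G := N)
  have h1 := Characters.CCBasic.card_irr_of_comm hab
  have h2 : 1 < Nat.card N := (Subgroup.one_lt_card_iff_ne_bot N).2 hN1
  rw [← h1] at h2
  have h3 : Nontrivial (IrrCharacter N) := Finite.one_lt_card_iff_nontrivial.1 h2
  obtain ⟨θ, hθ⟩ := exists_ne (one N)
  exact ⟨θ, fun h => hθ (Subtype.ext h)⟩

/-- If `G` permutes the nontrivial characters of the abelian normal subgroup `N` transitively, `|N| - 1` divides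
`|G : C_G(N)|`. -/
theorem pred_dvd (N : Subgroup G) [N.Normal] (hab : ∀ a b : N, a * b = b * a) (hN1 : N ≠ ⊥)
    (htr : ∀ θ θ' : IrrCharacter N, (θ : N → ℂ) ≠ (fun _ => 1) → (θ' : N → ℂ) ≠ (fun _ => 1) →
      ∃ g : G, (θ' : N → ℂ) = (θ : N → ℂ) ∘ (MulAut.conjNormal g : MulAut N)) :
    Nat.card N - 1 ∣ (Subgroup.centralizer (N : Set G)).index := by
  classical
  have := finite_irr (G := N)
  have hfin := Fintype.ofFinite (IrrCharacter N)
  obtain ⟨θ, hθ⟩ := exists_ne_one N hab hN1
  have h1 := H686.CharKit.inertia_index N θ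
  have h2 : Nat.card {ψ : IrrCharacter N // ∃ g : G, (ψ : N → ℂ)
          = (θ : N → ℂ) ∘ (MulAut.conjNormal g : MulAut N)} = Nat.card N - 1 := by
    have h3 : Nat.card {ψ : IrrCharacter N // ∃ g : G, (ψ : N → ℂ)
          = (θ : N → ℂ) ∘ (MulAut.conjNormal g : MulAut N)} = Nat.card {ψ : IrrCharacter N // ψ ≠ one N} := by
      refine Nat.card_congr (Equiv.subtypeEquivRight fun ψ => ⟨?_, ?_⟩)
      · rintro ⟨g, hg⟩ h
        apply hθ
        funext n
        have h4 := congrFun hg ((MulAut.conjNormal g : MulAut N).symm n)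
        rw [h, Function.comp_apply, MulEquiv.apply_symm_apply] at h4
        rw [← h4]
        rfl
      · intro h
        exact htr θ ψ hθ fun h' => h (Subtype.ext h')
    rw [h3, ← Characters.CCBasic.card_irr_of_comm hab, Nat.card_eq_fintype_card, Nat.card_eq_fintype_card,
      Fintype.card_subtype_compl, Fintype.card_subtype_eq]
  rw [← h2, ← h1]
  refine Subgroup.index_dvd_of_le ?_
  intro c hc
  rw [H686.CharKit.mem_inertia]
  intro n n' hn
  have h3 : (n' : G) = n := by
    rw [hn, ← (Subgroup.mem_centralizer_iff.1 hc) n n.2, mul_inv_cancel_right]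
  rw [Subtype.ext h3]

theorem pow_two_dvd (N : Subgroup G) (hNp : IsPGroup p N) (hN1 : N ≠ ⊥) (hN : p ∣ N.index) :
    p ^ 2 ∣ Nat.card G := by
  obtain ⟨n, hn⟩ := IsPGroup.iff_card.1 hNp
  have h1 : 1 < Nat.card N := (Subgroup.one_lt_card_iff_ne_bot N).2 hN1
  rw [hn] at h1
  have h2 : n ≠ 0 := by rintro rfl; simp at h1
  rw [← N.card_mul_index, pow_two]
  exact mul_dvd_mul (by rw [hn]; exact dvd_pow_self p h2) hN

/-- If all of `B₀` has degree prime to `p`. -/
theorem deg_of_six (hM : IsPModular p M) (hp2 : p ≠ 2) (h2 : p ^ 2 ∣ Nat.card G)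
    (hk : Nat.card (principalBlock M G) = 6) (χ : IrrCharacter G) (hχ : χ ∈ principalBlock M G) :
    ¬ p ∣ charDegree (χ : G → ℂ) := by
  intro h
  have := finite_principal (M := M) (G := G)
  have := finite_irr (G := G)
  have h1 := H774.K0.six_le_card hp2 hM h2
  have := Fintype.ofFinite (principalBlock M G)
  let F : {χ : IrrCharacter G // χ ∈ principalBlock M G ∧ ¬ p ∣ charDegree (χ : G → ℂ)} → principalBlock M G :=
    fun ψ => ⟨ψ.1, ψ.2.1⟩
  have hF : Function.Injective F := fun a b h => Subtype.ext (congrArg (fun z : principalBlock M G => z.1) h)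
  have h3 : ¬ Function.Surjective F := by
    intro hs
    obtain ⟨ψ, hψ⟩ := hs ⟨χ, hχ⟩
    have h4 : ψ.1 = χ := congrArg (fun z : principalBlock M G => z.1) hψ
    exact ψ.2.2 (h4 ▸ h)
  have h4 : Nat.card {χ : IrrCharacter G // χ ∈ principalBlock M G ∧ ¬ p ∣ charDegree (χ : G → ℂ)} <
      Nat.card (principalBlock M G) := by
    have := Fintype.ofFinite {χ : IrrCharacter G // χ ∈ principalBlock M G ∧ ¬ p ∣ charDegree (χ : G → ℂ)}
    rw [Nat.card_eq_fintype_card, Nat.card_eq_fintype_card]
    exact Fintype.card_lt_of_injective_not_surjective F hF h3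
  omega

/-- A member of `B₀(G/N)` which is nontrivial on `C/N`, if `p` divides `|C : N|`. -/
theorem exists_nontrivial_on (hM : IsPModular p M) (C : Subgroup G) (hC : p ∣ Nat.card C) :
    ∃ χ ∈ principalBlock M G, ¬ ∀ n ∈ C, (χ : G → ℂ) n = (χ : G → ℂ) 1 := by
  by_contra hcon
  push Not at hcon
  have hp : p.Prime := Fact.out
  obtain ⟨x, hx⟩ := exists_prime_orderOf_dvd_card' p hC
  have hx1 : orderOf (x : G) = p := by rw [Subgroup.orderOf_coe, hx]
  have hxne : (x : G) ≠ 1 := fun h => hp.ne_one (by rw [← hx1, h, orderOf_one])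
  have h1 := orth hM (M := M) (x := (x : G)) (y := 1)
    (PPart.isPPart_of_isPGroup (p := p) ⟨1, by rw [pow_one, hx1]⟩)
    (PPart.isPPart_of_isPGroup (p := p) ⟨0, by rw [pow_zero, orderOf_one]⟩)
    (fun h => hxne (isConj_one_left.1 h))
  have h2 : ∀ χ ∈ B0 M G, (χ : G → ℂ) (x : G) * (χ : G → ℂ) 1⁻¹ = ((charDegree (χ : G → ℂ) : ℂ)) ^ 2 := by
    intro χ hχ
    rw [hcon χ (mem_B0.1 hχ) x x.2, inv_one, irr_one_eq_charDegree χ.2, pow_two]
  rw [Finset.sum_congr rfl h2] at h1
  have h3 : ∑ χ ∈ B0 M G, (charDegree (χ : G → ℂ)) ^ 2 = 0 := by exact_mod_cast h1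
  rw [Finset.sum_eq_zero_iff] at h3
  have h4 := h3 _ (one_mem_B0 hM)
  have h5 := charDegree_pos (isIrrCharacter_one (G := G))
  exact absurd h4 (pow_pos h5 2).ne'

/-- If the normal abelian `p`-subgroup `N` has index prime to `p` in its centralizer and `O_{p'}(G) = 1`, then
`C_G(N) = N`. -/
theorem centralizer_eq (N : Subgroup G) [N.Normal] (hab : ∀ a b : N, a * b = b * a) (hNp : IsPGroup p N)
    (hrel : ¬ p ∣ N.relIndex (Subgroup.centralizer (N : Set G))) (hcore : pPrimeCore p G = ⊥) :
    Subgroup.centralizer (N : Set G) = N := by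
  have hp : p.Prime := Fact.out
  set C := Subgroup.centralizer (N : Set G) with hC
  have hCn : C.Normal := inferInstance
  have hNC : N ≤ C := by
    intro x hx
    rw [hC, Subgroup.mem_centralizer_iff]
    intro y hy
    exact congrArg Subtype.val (hab ⟨y, hy⟩ ⟨x, hx⟩)
  obtain ⟨n, hn⟩ := IsPGroup.iff_card.1 hNp
  have hcard : Nat.card (N.subgroupOf C) = p ^ n := by
    rw [← hn]
    exact Nat.card_congr (Subgroup.subgroupOfEquivOfLe hNC).toEquiv
  have hcop : (Nat.card (N.subgroupOf C)).Coprime (N.subgroupOf C).index := by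
    rw [hcard]
    exact Nat.Coprime.pow_left n ((hp.coprime_iff_not_dvd).2 hrel)
  obtain ⟨K, hK⟩ := Subgroup.exists_right_complement'_of_coprime hcop
  have hKcard : Nat.card K = (N.subgroupOf C).index := by
    rw [hK.symm.index_eq_card]
  have hKn : K.Normal := by
    constructor
    intro k hk c
    obtain ⟨⟨a, b⟩, hab'⟩ := hK.surjective c
    simp only at hab'
    have hacomm : ∀ y : C, (a : C) * y = y * a := by
      intro y
      apply Subtype.ext
      exact (Subgroup.mem_centralizer_iff.1 y.2) ((a : C) : G) (Subgroup.mem_subgroupOf.1 a.2)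
    rw [← hab', mul_inv_rev]
    have h1 : (a : C) * b * k * ((b : C)⁻¹ * (a : C)⁻¹) = b * k * (b : C)⁻¹ := by
      rw [show (a : C) * b * k * ((b : C)⁻¹ * (a : C)⁻¹) = (a : C) * (b * k * (b : C)⁻¹) * (a : C)⁻¹ by group,
        hacomm, mul_inv_cancel_right]
    rw [h1]
    exact K.mul_mem (K.mul_mem b.2 hk) (K.inv_mem b.2)
  have hK1 : K ≤ pPrimeCore p C := Lib.Cores.le_pPrimeCore hKn (by
    rw [hKcard]
    exact ((hp.coprime_iff_not_dvd).2 hrel).symm)
  have h2 := Lib.Cores.map_subtype_pPrimeCore p hCn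
  rw [hcore, inf_bot_eq, Subgroup.map_eq_bot_iff_of_injective _ C.subtype_injective] at h2
  rw [h2, le_bot_iff] at hK1
  have h3 : (N.subgroupOf C).index = 1 := by rw [← hKcard, hK1, Subgroup.card_bot]
  exact le_antisymm (Subgroup.subgroupOf_eq_top.1 (Subgroup.index_eq_one.1 h3)) hNC

theorem degree_infl (N : Subgroup G) [N.Normal] (ψ : IrrCharacter (G ⧸ N)) :
    charDegree (infl N ψ : G → ℂ) = charDegree (ψ : G ⧸ N → ℂ) := rfl

/-- **Abelian normal subgroups.** -/
theorem abelian (hM : IsPModular p M) (hp2 : p ≠ 2) (N : Subgroup G) [N.Normal]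
    (hab : ∀ a b : N, a * b = b * a) (hNp : IsPGroup p N) (hN1 : N ≠ ⊥) (hN : p ∣ N.index)
    (hcore : pPrimeCore p G = ⊥) (h27 : p = 3 → 27 ∣ Nat.card G)
    (hk : Nat.card (principalBlock M G) = 6) : False := by
  classical
  have hp : p.Prime := Fact.out
  have hMp : M.IsPrime := LocalRing.isPrime hM
  have hfN := Fintype.ofFinite N
  have hfirr := finite_irr (G := N)
  have hdeg := deg_of_six hM hp2 (pow_two_dvd N hNp hN1 hN) hk
  -- every character of `N` is in the principal block
  have hB : ∀ θ : IrrCharacter N, θ ∈ principalBlock M N := by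
    intro θ
    have h1 : IsPGroup p (⊤ : Subgroup N) := hNp.to_subgroup ⊤
    exact UniqueBlock.sameBlock_of_centralizer_le hM (⊤ : Subgroup N) h1 le_top (one N) θ
  have hidx : p ∣ Nat.card (G ⧸ N) := by rwa [← Subgroup.index_eq_card]
  have hp3 : 3 ≤ p := by have := hp.two_le; omega
  -- transitivity
  have htr : ∀ θ θ' : IrrCharacter N, (θ : N → ℂ) ≠ (fun _ => 1) → (θ' : N → ℂ) ≠ (fun _ => 1) →
      ∃ g : G, (θ' : N → ℂ) = (θ : N → ℂ) ∘ (MulAut.conjNormal g : MulAut N) := by
    intro θ θ' h1 h1'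
    by_contra hcon
    push Not at hcon
    obtain ⟨s, hs, hs'⟩ := four_over hM N hN hdeg (hB θ) (hB θ') h1 h1' hcon
    have h3 := card_add_le (M := M) N (principalBlock M (G ⧸ N)) (fun ψ hψ => inflate_mem N hψ) s hs'
    have h4 : 3 ≤ Nat.card (principalBlock M (G ⧸ N)) := by
      rcases k_bound (G := G ⧸ N) hM hp2 hidx with h | ⟨-, h⟩
      · omega
      · by_contra hcon
        have h5 : Nat.card (principalBlock M (G ⧸ N)) ≤ 2 := by omega
        have h6 := Nat.pow_le_pow_left h5 2
        omega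
    rw [hs] at h3
    have h5 : Nat.card ↑(principalBlock M (G ⧸ N)) = Nat.card (principalBlock M (G ⧸ N)) := rfl
    omega
  have hdvd := pred_dvd N hab hN1 htr
  -- two over a nontrivial character
  obtain ⟨θ, hθ⟩ := exists_ne_one N hab hN1
  obtain ⟨a, ha, b, hb, hne, haθ, hbθ⟩ := two_over hM N hN hdeg (hB θ)
  have haN : ¬ ∀ n ∈ N, (a : G → ℂ) n = (a : G → ℂ) 1 := not_ker_of_over N hθ haθ
  have hbN : ¬ ∀ n ∈ N, (b : G → ℂ) n = (b : G → ℂ) 1 := not_ker_of_over N hθ hbθ
  have h4 : Nat.card (principalBlock M (G ⧸ N)) ≤ 4 := by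
    have h3 := card_add_le (M := M) N (principalBlock M (G ⧸ N)) (fun ψ hψ => inflate_mem N hψ) {a, b} (by
      intro χ hχ
      simp only [Finset.mem_insert, Finset.mem_singleton] at hχ
      rcases hχ with rfl | rfl
      · exact ⟨ha, haN⟩
      · exact ⟨hb, hbN⟩)
    rw [Finset.card_pair hne] at h3
    have h5 : Nat.card ↑(principalBlock M (G ⧸ N)) = Nat.card (principalBlock M (G ⧸ N)) := rfl
    omega
  obtain ⟨hsq, hpk⟩ : ¬ p ^ 2 ∣ Nat.card (G ⧸ N) ∧ p ≤ 5 := by
    rcases k_bound (G := G ⧸ N) hM hp2 hidx with h | ⟨h, h'⟩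
    · omega
    · refine ⟨h, ?_⟩
      have h6 := Nat.pow_le_pow_left h4 2
      omega
  have hcardG : Nat.card N * Nat.card (G ⧸ N) = Nat.card G := by
    rw [← Subgroup.index_eq_card, N.card_mul_index]
  have hNdvd : p ∣ Nat.card N := by
    obtain ⟨n, hn⟩ := IsPGroup.iff_card.1 hNp
    have h1 : 1 < Nat.card N := (Subgroup.one_lt_card_iff_ne_bot N).2 hN1
    rw [hn] at h1 ⊢
    exact dvd_pow_self p (by rintro rfl; simp at h1)
  have h9 : p = 3 → 9 ∣ Nat.card N := by
    intro h3
    subst h3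
    obtain ⟨n, hn⟩ := IsPGroup.iff_card.1 hNp
    rw [hn]
    by_contra hcon
    have hn1 : n ≤ 1 := by
      by_contra h
      exact hcon (pow_dvd_pow 3 (by omega : 2 ≤ n))
    have h1 := h27 rfl
    rw [← hcardG, hn] at h1
    apply hsq
    have h2 : 3 * 3 ^ 2 ∣ 3 * Nat.card (G ⧸ N) :=
      (by norm_num : (27 : ℕ) = 3 * 3 ^ 2) ▸ h1.trans (Nat.mul_dvd_mul_right (by
        calc 3 ^ n ∣ 3 ^ 1 := pow_dvd_pow 3 hn1
          _ = 3 := pow_one 3) _)
    exact Nat.dvd_of_mul_dvd_mul_left (by norm_num) h2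
  set C := Subgroup.centralizer (N : Set G) with hC
  have hCn : C.Normal := inferInstance
  have hNC : N ≤ C := by
    intro x hx
    rw [hC, Subgroup.mem_centralizer_iff]
    intro y hy
    exact congrArg Subtype.val (hab ⟨y, hy⟩ ⟨x, hx⟩)
  by_cases hpC : p ∣ C.index
  · -- `C = N`
    have hrel : ¬ p ∣ N.relIndex C := by
      intro h
      apply hsq
      rw [← Subgroup.index_eq_card, ← Subgroup.relIndex_mul_index hNC, pow_two]
      exact mul_dvd_mul h hpC
    have hCN : C = N := centralizer_eq N hab hNp hrel hcore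
    have hsame : ∀ χ : IrrCharacter G, χ ∈ principalBlock M G := fun χ =>
      UniqueBlock.sameBlock_of_centralizer_le hM N hNp hCN.le (one G) χ
    have h5 : Nat.card (IrrCharacter (G ⧸ N)) ≤ 4 := by
      have h3 := card_add_le (M := M) N (Set.univ : Set (IrrCharacter (G ⧸ N))) (fun ψ _ => hsame _) {a, b} (by
        intro χ hχ
        simp only [Finset.mem_insert, Finset.mem_singleton] at hχ
        rcases hχ with rfl | rfl
        · exact ⟨ha, haN⟩
        · exact ⟨hb, hbN⟩)
      rw [Finset.card_pair hne, Nat.card_univ] at h3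
      omega
    rw [card_irr] at h5
    rw [hCN, Subgroup.index_eq_card] at hdvd
    have hp35 : p = 3 ∨ p = 5 := by
      have h1 : p ≠ 4 := by rintro rfl; revert hp; decide
      omega
    have hp1 : 1 < Nat.card N := (Subgroup.one_lt_card_iff_ne_bot N).2 hN1
    rcases hp35 with rfl | rfl
    · -- `p = 3`
      have h6 : Nat.card (ConjClasses (G ⧸ N)) ≤ 3 := by
        by_contra hcon
        have h7 : Nat.card (ConjClasses (G ⧸ N)) = 4 := by omega
        have hfq := finite_irr (G := G ⧸ N)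
        have hf := Fintype.ofFinite (IrrCharacter (G ⧸ N))
        have h8 := H686.CharKit.sum_deg_sq (G := G ⧸ N)
        have h9' : (∑ χ : IrrCharacter (G ⧸ N), charDegree (χ : G ⧸ N → ℂ) ^ 2) % 3 =
            (∑ χ : IrrCharacter (G ⧸ N), 1) % 3 := by
          rw [Finset.sum_nat_mod, Finset.sum_nat_mod (f := fun _ => 1)]
          congr 1
          refine Finset.sum_congr rfl fun χ _ => ?_
          have h10 := hdeg (infl N χ) (hsame _)
          rw [degree_infl] at h10
          have h11 : charDegree (χ : G ⧸ N → ℂ) % 3 = 1 ∨ charDegree (χ : G ⧸ N → ℂ) % 3 = 2 := by omega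
          rw [pow_two, Nat.mul_mod]
          rcases h11 with h | h <;> rw [h]
        rw [h8, Finset.sum_const, Finset.card_univ, smul_eq_mul, mul_one, ← Nat.card_eq_fintype_card, card_irr,
          h7] at h9'
        omega
      have h7 := H634.ClassEq.card_le_six h6
      obtain ⟨k, hk'⟩ := h9 rfl
      have h8 := Nat.le_of_dvd Nat.card_pos hdvd
      omega
    · -- `p = 5`
      by_cases h6 : Nat.card N = 5
      · have h7 := SmallSimple.SylowPrimeCount.relIndex_dvd_pred hp h6
        rw [Subgroup.normalizer_eq_top, Subgroup.relIndex_top_right] at h7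
        have h8 : 5 ∣ 5 - 1 := hpC.trans h7
        omega
      · have h7 := H698.Landau.le_42 h5
        have h8 : 25 ∣ Nat.card N := by
          obtain ⟨n, hn⟩ := IsPGroup.iff_card.1 hNp
          rw [hn] at h6 hp1 ⊢
          have hn2 : 2 ≤ n := by
            by_contra hcon
            have : n = 0 ∨ n = 1 := by omega
            rcases this with rfl | rfl <;> simp at h6 hp1
          exact pow_dvd_pow 5 hn2
        obtain ⟨k, hk'⟩ := h8
        have h9 : 5 * (Nat.card N - 1) ∣ Nat.card (G ⧸ N) := by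
          refine Nat.Coprime.mul_dvd_of_dvd_of_dvd ?_ hidx hdvd
          rw [Nat.Prime.coprime_iff_not_dvd hp]
          omega
        have h10 := Nat.le_of_dvd Nat.card_pos h9
        omega
  · -- `p` does not divide `|G : C|`
    obtain ⟨P⟩ : Nonempty (Sylow p G) := inferInstance
    have hNP : N ≤ (P : Subgroup G) := hNp.le_sylow_of_normal P
    have hPC : Subgroup.centralizer ((P : Subgroup G) : Set G) ≤ C := Subgroup.centralizer_le hNP
    -- a member of `B₀(G/N)` which is nontrivial on `C/N`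
    have hrel : p ∣ N.relIndex C := by
      rw [← Subgroup.relIndex_mul_index hNC, hp.dvd_mul] at hN
      exact hN.resolve_right hpC
    have hmap : p ∣ Nat.card (C.map (QuotientGroup.mk' N)) := by
      rw [← Subgroup.relIndex_ker, QuotientGroup.ker_mk']
      exact hrel
    obtain ⟨ψ, hψ, hψC⟩ := exists_nontrivial_on hM (C.map (QuotientGroup.mk' N)) hmap
    have hcC : ¬ ∀ n ∈ C, (infl N ψ : G → ℂ) n = (infl N ψ : G → ℂ) 1 := by
      intro h
      apply hψC
      rintro _ ⟨c, hc, rfl⟩
      exact h c hc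
    have hcN := infl_ker N ψ
    have h5 : Nat.card (IrrCharacter (G ⧸ C)) ≤ 3 := by
      have h3 := card_add_le (M := M) C (Set.univ : Set (IrrCharacter (G ⧸ C)))
        (fun ψ _ => H735.S4822.infl_mem hM P C hPC hpC ψ) {infl N ψ, a, b} (by
        intro χ hχ
        simp only [Finset.mem_insert, Finset.mem_singleton] at hχ
        rcases hχ with rfl | rfl | rfl
        · exact ⟨inflate_mem N hψ, hcC⟩
        · exact ⟨ha, fun h => haN fun n hn => h n (hNC hn)⟩
        · exact ⟨hb, fun h => hbN fun n hn => h n (hNC hn)⟩)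
      rw [Finset.card_insert_of_notMem, Finset.card_pair hne, Nat.card_univ] at h3
      · omega
      · simp only [Finset.mem_insert, Finset.mem_singleton, not_or]
        exact ⟨fun h => haN (h ▸ hcN), fun h => hbN (h ▸ hcN)⟩
    have h7 := H634.ClassEq.card_le_six (card_irr (G := G ⧸ C) ▸ h5)
    rw [Subgroup.index_eq_card] at hdvd
    have h8 := Nat.le_of_dvd Nat.card_pos hdvd
    have hp35 : p = 3 ∨ p = 5 := by
      have h1 : p ≠ 4 := by rintro rfl; revert hp; decide
      omega
    have hp1 : 1 < Nat.card N := (Subgroup.one_lt_card_iff_ne_bot N).2 hN1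
    rcases hp35 with rfl | rfl
    · obtain ⟨k, hk'⟩ := h9 rfl
      omega
    · have h10 : Nat.card N = 5 := by
        obtain ⟨k, hk'⟩ := hNdvd
        omega
      rw [h10] at hdvd
      have h11 : Nat.card (G ⧸ C) = 4 := by
        obtain ⟨k, hk'⟩ := hdvd
        omega
      have : Fact (Nat.Prime 2) := ⟨Nat.prime_two⟩
      have h12 := Characters.CCBasic.card_irr_of_comm (A := G ⧸ C)
        (IsPGroup.commutative_of_card_eq_prime_sq (p := 2) (by rw [h11]; norm_num))
      omega

end Cfsg.Agent.H703.K6
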