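import Mathlib
import Cfsg.Agent.H703.K6.CaseA2

/-!
# S4876: reduction, case A, the end

* `caseA`: if `p` is odd, `O_{p'}(G) = 1`, `p² ∣ |G|` (`27 ∣ |G|` if `p = 3`) and `N` is a minimal normal subgroup of
  index divisible by `p`, then `k(B₀(G)) ≠ 6`.
* `index_minimal`: so every minimal normal subgroup has index prime to `p`.
-/

set_option autoImplicit false
set_option linter.unusedSectionVars false

open Cfsg
open scoped ComplexConjugate

namespace Cfsg.Agent.H703.K6

open Cfsg.Agent.Characters.Core Cfsg.Agent.Blocks Cfsg.Agent.Blocks.Basic Cfsg.Agent.H703.Lat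

universe u

variable {G : Type u} [Group G] [Finite G] {p : ℕ} [Fact p.Prime] {M : Ideal AlgInt}

/-- A normal abelian subgroup of a group with `O_{p'} = 1` is a `p`-group. -/
theorem isPGroup_of_abelian (N : Subgroup G) [N.Normal] (hab : ∀ a b : N, a * b = b * a)
    (hcore : pPrimeCore p G = ⊥) : IsPGroup p N := by
  have hp : p.Prime := Fact.out
  have h1 := Lib.Cores.map_subtype_pPrimeCore p (inferInstance : N.Normal)
  rw [hcore, inf_bot_eq, Subgroup.map_eq_bot_iff_of_injective _ N.subtype_injective] at h1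
  rw [IsPGroup.iff_card]
  refine ⟨_, Nat.eq_prime_pow_of_unique_prime_dvd Nat.card_pos.ne' fun {q} hq hqN => ?_⟩
  by_contra hne
  have := Fact.mk hq
  obtain ⟨Q⟩ : Nonempty (Sylow q N) := inferInstance
  have hQn : (Q : Subgroup N).Normal := ⟨fun n hn g => by rwa [hab g n, mul_inv_cancel_right]⟩
  have h2 : (Q : Subgroup N) ≤ pPrimeCore p N := Lib.Cores.le_pPrimeCore hQn (by
    obtain ⟨n, hn⟩ := IsPGroup.iff_card.1 Q.isPGroup'
    rw [hn]
    exact Nat.Coprime.pow_left n ((Nat.coprime_primes hq hp).2 hne))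
  rw [h1, le_bot_iff] at h2
  exact Q.ne_bot_of_dvd_card hqN h2

/-- **Case A.** -/
theorem caseA (hM : IsPModular p M) (hp2 : p ≠ 2) (N : Subgroup G) [hNn : N.Normal] (hN1 : N ≠ ⊥)
    (hmin : ∀ K : Subgroup G, K.Normal → K ≤ N → K = ⊥ ∨ K = N) (hcore : pPrimeCore p G = ⊥)
    (hN : p ∣ N.index) (h2 : p ^ 2 ∣ Nat.card G) (h27 : p = 3 → 27 ∣ Nat.card G)
    (hk : Nat.card (principalBlock M G) = 6) : False := by
  have hp : p.Prime := Fact.out
  rcases hmin ⁅N, N⁆ inferInstance (Subgroup.commutator_le_self N) with h | h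
  · have hab : ∀ a b : N, a * b = b * a := by
      intro a b
      have h3 := Subgroup.commutator_mem_commutator a.2 b.2
      rw [h, Subgroup.mem_bot, commutatorElement_eq_one_iff_mul_comm] at h3
      exact Subtype.ext h3
    exact abelian hM hp2 N hab (isPGroup_of_abelian N hab hcore) hN1 hN hcore h27 hk
  · have hperf : commutator N = ⊤ := by
      apply Subgroup.map_injective N.subtype_injective
      rw [Subgroup.map_subtype_commutator, h, ← MonoidHom.range_eq_map, Subgroup.range_subtype]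
    have hpN : p ∣ Nat.card N := by
      by_contra hcon
      have h3 := Lib.Cores.le_pPrimeCore hNn ((hp.coprime_iff_not_dvd).2 hcon).symm
      rw [hcore, le_bot_iff] at h3
      exact hN1 h3
    have h3 := perfect hM hp2 N hperf hpN hN (deg_of_six hM hp2 h2 hk)
    omega

/-- Every minimal normal subgroup has index prime to `p`. -/
theorem index_minimal (hM : IsPModular p M) (hp2 : p ≠ 2) (N : Subgroup G) [hNn : N.Normal] (hN1 : N ≠ ⊥)
    (hmin : ∀ K : Subgroup G, K.Normal → K ≤ N → K = ⊥ ∨ K = N) (hcore : pPrimeCore p G = ⊥)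
    (h2 : p ^ 2 ∣ Nat.card G) (h27 : p = 3 → 27 ∣ Nat.card G)
    (hk : Nat.card (principalBlock M G) = 6) : ¬ p ∣ N.index := fun hN =>
  caseA hM hp2 N hN1 hmin hcore hN h2 h27 hk

end Cfsg.Agent.H703.K6
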