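import Mathlib
import Cfsg.Agent.H703.K6.CaseA3
import Cfsg.Agent.H404.K6.Red

/-!
# S4876: `H404.K6.CaseA` holds; the reduction without the case A hypothesis
-/

set_option autoImplicit false

namespace Cfsg.Agent.H703.K6

open Cfsg Cfsg.Agent.H61.K6

universe u

variable {p : ℕ} [Fact p.Prime]

theorem caseA_holds (hp2 : p ≠ 2) : H404.K6.CaseA.{u} p :=
  fun _ hM _ _ _ hk hcore h2 h27 N hNn hmin hN1 hN =>
    haveI := hNn
    caseA hM hp2 N hN1 hmin hcore hN h2 h27 hk

/-- **The reduction**: if all nonabelian simple groups of order divisible by `p²` (`27` for `p = 3`) satisfy `KRow`,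
then `k(B₀(G)) ≥ 7` for all finite `G` of order divisible by `p²` (`27`). -/
theorem seven_of_rows (hp2 : p ≠ 2) {M : Ideal AlgInt} (hM : IsPModular p M)
    (hrows : ∀ (S : Type u) [Group S] [Finite S], IsSimpleGroup S → (¬ ∀ x y : S, Commute x y) →
      p ^ 2 ∣ Nat.card S → (p = 3 → 27 ∣ Nat.card S) → KRow.{u, u} p S)
    (G : Type u) [Group G] [Finite G] (h2 : p ^ 2 ∣ Nat.card G) (h3 : p = 3 → 27 ∣ Nat.card G) :
    7 ≤ Nat.card (principalBlock M G) :=
  H404.K6.seven_of_rows hp2 hM (caseA_holds hp2) hrows G h2 h3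

end Cfsg.Agent.H703.K6
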