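import Cfsg.Agent.H80.K6.Height
import Cfsg.Agent.H61.K6.Base
import Cfsg.Agent.H619.BD.KData

/-!
# S4876, criterion (H) in the form of a row (helper703)

* `KRow.of_b0d` : an irreducible character of degree divisible by `p` in the principal `p`-block of `X`: `KRow p X`;
* `b0d_rank_three` : both constituents of a rank 3 permutation character are in the principal block, with the
  decomposition of the permutation character as a hypothesis.
-/

set_option autoImplicit false

open Cfsg

namespace Cfsg.Agent.H703.K6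

open Cfsg.Agent.Characters Cfsg.Agent.Characters.Core Cfsg.Agent.Blocks Cfsg.Agent.Blocks.LocalRing
open Cfsg.Agent.H61.K6 Cfsg.Agent.H619.BD

universe u v w

/-- **Criterion (H).** -/
theorem krow_of_b0d {p : ℕ} (hp2 : p ≠ 2) {X : Type v} [Group X] [Finite X] (h2 : p ^ 2 ∣ Nat.card X) {d : ℕ}
    (hd : p ∣ d) (h : B0D p X d) : KRow.{u, v} p X := by
  intro M G _ _ K hS
  obtain ⟨f⟩ := hS.iso
  obtain ⟨θ, h1, h3⟩ := h.congr f
  have := hS.normal
  refine H80.K6.seven_of_normal_height hS.modular hp2 ?_ K (h1 M hS.modular) (h3 ▸ hd)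
  have h4 : p ^ 2 ∣ Nat.card K := by rwa [← Nat.card_congr f.toEquiv]
  exact h4.trans K.card_subgroup_dvd_card

/-- Rank 3: both constituents are in the principal block. -/
theorem b0d_rank_three {p : ℕ} {G : Type u} [Group G] [Finite G] {X : Type v} [MulAction G X] [Finite X]
    [MulAction.IsPretransitive G X] (x₀ : X) {χ₁ χ₂ : IrrCharacter G} {a b : ℕ} (e1 : (χ₁ : G → ℂ) 1 = a)
    (e2 : (χ₂ : G → ℂ) 1 = b)
    (hπ : ∀ x : G, (Nat.card (MulAction.fixedBy X x) : ℂ) = 1 + (χ₁ : G → ℂ) x + (χ₂ : G → ℂ) x) {e : ℕ}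
    (he : p ^ e ∣ 1 + a + b) (h1 : 1 % p ^ e ≠ 0) (h2 : (1 + a) % p ^ e ≠ 0) (h3 : (1 + b) % p ^ e ≠ 0) :
    B0D p G a ∧ B0D p G b := by
  classical
  have htr : ∀ x : X, ∃ g : G, g • x₀ = x := fun x => MulAction.exists_smul_eq G x₀ x
  let χ : Fin 3 → IrrCharacter G := ![⟨fun _ => 1, isIrr_one⟩, χ₁, χ₂]
  let dg : Fin 3 → ℕ := ![1, a, b]
  have key : ∀ M : Ideal AlgInt, IsPModular p M → ∀ i, χ i ∈ principalBlock M G := fun M hM =>
    all_mem_principal (e := e) hM x₀ htr χ rfl (fun g => by
      rw [hπ g, Fin.sum_univ_three]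
      rfl) (d := dg) (fun i => by
        fin_cases i
        · simp [χ, dg]
        · exact e1
        · exact e2) (by
        rw [Fin.sum_univ_three]
        exact he) (by
        intro T h0 hT
        have h4 : ∑ i ∈ T, dg i = 1 + (if (1 : Fin 3) ∈ T then a else 0) + if (2 : Fin 3) ∈ T then b else 0 := by
          have h5 : ∑ i ∈ T, dg i = ∑ i : Fin 3, if i ∈ T then dg i else 0 := by
            rw [Finset.sum_ite_mem, Finset.univ_inter]
          rw [h5, Fin.sum_univ_three, if_pos h0]
          rfl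
        rw [h4] at hT
        by_cases h5 : (1 : Fin 3) ∈ T <;> by_cases h6 : (2 : Fin 3) ∈ T
        · rw [Finset.eq_univ_iff_forall]
          intro i
          fin_cases i
          · exact h0
          · exact h5
          · exact h6
        · rw [if_pos h5, if_neg h6, add_zero] at hT
          exact absurd hT h2
        · rw [if_neg h5, if_pos h6, add_zero] at hT
          exact absurd hT h3
        · rw [if_neg h5, if_neg h6] at hT
          exact absurd hT h1)
  exact ⟨⟨χ₁, fun M hM => key M hM 1, Blocks.Basic.charDegree_of_eq e1⟩,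
    ⟨χ₂, fun M hM => key M hM 2, Blocks.Basic.charDegree_of_eq e2⟩⟩

end Cfsg.Agent.H703.K6
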