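import Cfsg.Agent.H703.K6.KRowH
import Cfsg.Agent.H187.FiTwoZ.FiFour
import Cfsg.Agent.H187.FiTwoZ.FiThree

/-!
# S4876, rows `Fi22`, `Fi23`, `Fi24'`, `p = 3` (helper703)

Characters of degree `429`, `30888`, `57477` in the principal `3`-block (rank 3 permutation characters).
-/

set_option autoImplicit false
set_option linter.unusedSectionVars false

open Cfsg

namespace Cfsg.Agent.H703.K6

open Cfsg.Agent.Characters Cfsg.Agent.Characters.Core Cfsg.Agent.Fischer.Abstract Cfsg.Agent.LThreeM.SrgFix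
open Cfsg.Agent.H690.Spor.RankThree Cfsg.Agent.H187.FiTwoZ
open Cfsg.Agent.H61.K6 Cfsg.Agent.H619.BD

universe u v w

section rank

variable {G : Type u} {X : Type v} [Group G] [MulAction G X]

/-- the two constituents are in the principal block -/
theorem b0d_of_rank3 [Finite G] (R : Rank3 G X) (N : Subgroup G) (hN : Same N X) {k l m : ℕ}
    (hk : (nb R R.x0).ncard = k) (hm : (cn R R.x0 R.b).ncard = m)
    (hn : Nat.card X = 1 + k + l) (hk0 : 0 < k) (hl0 : 0 < l) {r s : ℤ} (hrs : r ≠ s) (h2 : r * s = m - k)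
    (h1 : (k : ℤ) * (r + s + m) = k * k - k - l * m) {f g : ℕ}
    (hf : (f : ℤ) * (r - s) = -(s * (k + l) + k)) (hg : (g : ℤ) * (r - s) = r * (k + l) + k) {p e : ℕ}
    (he : p ^ e ∣ 1 + f + g) (e1 : 1 % p ^ e ≠ 0) (e2 : (1 + f) % p ^ e ≠ 0) (e3 : (1 + g) % p ^ e ≠ 0) :
    B0D p N f ∧ B0D p N g := by
  classical
  have hfX : Finite X := Nat.finite_of_card_ne_zero (by omega)
  have := Fintype.ofFinite X
  have hb : R3.com (Adj R) R.x0 R.b = m := by
    rw [← hm]
    refine Nat.card_congr (Equiv.subtypeEquivRight fun z => ?_)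
    exact ⟨fun h => ⟨h.1, adj_symm R h.2⟩, fun h => ⟨h.1, adj_symm R h.2⟩⟩
  have hr3 := r3 R N hN hk hn hk0 hl0
  obtain ⟨χ₁, χ₂, f', g', h3, h4, h5, h6, h7, -⟩ := Cfsg.Agent.H113.PSU.Rank3.frame_exact
    hr3 R.b_ne_x0.symm (fun h => R.not_com_x0_b h.2) hb hrs h2 h1
  have hd : r - s ≠ 0 := sub_ne_zero.2 hrs
  have ef : f' = f := by
    have := mul_right_cancel₀ hd (h5.trans hf.symm)
    exact_mod_cast this
  have eg : g' = g := by
    have := mul_right_cancel₀ hd (h6.trans hg.symm)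
    exact_mod_cast this
  subst ef eg
  have := hr3.trans
  exact b0d_rank_three R.x0 h3 h4 h7 he e1 e2 e3

end rank

/-- **Row `Fi22`, `p = 3`.** -/
theorem krow_fi22 {S : Type} [Group S] (h : Cfsg.Spor.IsoFi22 S) : KRow.{u, 0} 3 S := by
  obtain ⟨e⟩ := h
  let T : Type := ↥(⊤ : Subgroup Cfsg.Agent.Fischer.Group22.G)
  let f : T ≃* Spor.Fi22 := Subgroup.topEquiv.trans Cfsg.Agent.R01.Fi22Facts.E
  have hcT : Nat.card T = 64561751654400 := Cfsg.Agent.H713.Spor.Fi22.card_fi22 f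
  have hfT : Finite T := Nat.finite_of_card_ne_zero (by rw [hcT]; norm_num)
  refine KRow.congr (f.trans e.symm) ?_
  obtain ⟨h1, -⟩ := b0d_of_rank3 Cfsg.Agent.Fischer.Rank22.R ⊤ same_top (k := 693) (l := 2816) (m := 126)
    Cfsg.Agent.LThreeM.FiTwo.nb_card Cfsg.Agent.LThreeM.FiTwo.cn_b (by rw [Nat.card_eq_fintype_card, Fintype.card_fin])
    (by norm_num) (by norm_num) (r := 63) (s := -9) (by norm_num) (by norm_num) (by norm_num) (f := 429) (g := 3080)
    (by norm_num) (by norm_num) (p := 3) (e := 3) (by norm_num) (by norm_num) (by norm_num) (by norm_num)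
  exact krow_of_b0d (by norm_num) (by rw [hcT]; norm_num) (by norm_num) h1

/-- **Row `Fi23`, `p = 3`.** -/
theorem krow_fi23 {S : Type} [Group S] (h : Cfsg.Spor.IsoFi23 S) : KRow.{u, 0} 3 S := by
  obtain ⟨e⟩ := h
  have hcT := card_fi23
  have hfin : Finite Spor.Fi23 := Nat.finite_of_card_ne_zero (by rw [card_fi23]; norm_num)
  refine KRow.congr e.symm ?_
  obtain ⟨R, h0, -, hD⟩ := Cfsg.Agent.R08.FiTwentyThree.exists_rank3
  obtain ⟨-, h1⟩ := b0d_of_rank3 R ⊤ same_top (k := 3510) (l := 28160) (m := 351)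
    (Cfsg.Agent.LThreeM.FiThree.nb_card R h0 hD) (Cfsg.Agent.LThreeM.FiThree.cn_b R h0 hD)
    Cfsg.Agent.LThreeM.FiThree.card_X
    (by norm_num) (by norm_num) (r := 351) (s := -9) (by norm_num) (by norm_num) (by norm_num) (f := 782) (g := 30888)
    (by norm_num) (by norm_num) (p := 3) (e := 4) (by norm_num) (by norm_num) (by norm_num) (by norm_num)
  exact krow_of_b0d (by norm_num) (by rw [hcT]; norm_num) (by norm_num) (h1.congr Subgroup.topEquiv)

/-- **Row `Fi24'`, `p = 3`.** -/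
theorem krow_fi24 {S : Type} [Group S] (h : Cfsg.Spor.IsoFi24' S) : KRow.{u, 0} 3 S := by
  classical
  obtain ⟨e⟩ := h
  have hfinT := finite_fi24'
  have hcT := card_fi24
  have e' : S ≃* ↥(commutator Cfsg.Spor.Fi24) := e
  refine KRow.congr e'.symm ?_
  have hfin : Finite Cfsg.Spor.Fi24 := Cfsg.Agent.R08.FiTwentyFour.finite_Fi24
  obtain ⟨R, -, -, hR⟩ := Cfsg.Agent.R08.FiTwentyFour.facts.exists_rank3
  have hcX := Cfsg.Agent.H711.FiEven.card_X R hR
  have hsame : Same (commutator Cfsg.Spor.Fi24) (Cfsg.Spor.Fi24 ⧸ Cfsg.Agent.Fischer.Fi24RepOrb.H) :=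
    same_of R _ Cfsg.Agent.R08.FiTwentyFour.index_commutator
      (fun x => Cfsg.Agent.R08.FiTwentyFour.odd (by rw [← hR]; exact ⟨x, rfl⟩)) (fi24_common R hR)
  obtain ⟨h1, -⟩ := b0d_of_rank3 R (commutator Cfsg.Spor.Fi24) hsame (k := 31671) (l := 275264) (m := 3240)
    (Cfsg.Agent.H711.FiEven.nb_card R hR) (Cfsg.Agent.H711.FiEven.cb_card R hR) hcX
    (by norm_num) (by norm_num) (r := 351) (s := -81) (by norm_num) (by norm_num) (by norm_num)
    (f := 57477) (g := 249458) (by norm_num) (by norm_num) (p := 3) (e := 3) (by norm_num) (by norm_num)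
    (by norm_num) (by norm_num)
  exact krow_of_b0d (by norm_num) (by rw [hcT]; norm_num) (by norm_num) h1

end Cfsg.Agent.H703.K6
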